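import Mathlib.Algebra.Homology.DerivedCategory.KInjective
import Mathlib.Algebra.Homology.DerivedCategory.TStructure
import Mathlib.Algebra.Homology.Factorizations.CM5a
import Mathlib.Algebra.Homology.Refinements

/-!
Vanishing of `Hom(Y, X⟦i⟧)` for all objects `Y`, and complexes of injectives.
-/

set_option autoImplicit false

universe w v u

open CategoryTheory CategoryTheory.Limits

namespace Groth.Agent.ExtVan

variable {C : Type u} [Category.{v} C] [Abelian C] [HasDerivedCategory.{w} C]

/-- All morphisms from objects into `X⟦i⟧` vanish. -/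
def Vanish (X : DerivedCategory C) (i : ℤ) : Prop :=
  ∀ (Y : C) (φ : (DerivedCategory.singleFunctor C 0).obj Y ⟶ (shiftFunctor (DerivedCategory C) i).obj X),
    φ = 0

theorem vanish_of_iso {X X' : DerivedCategory C} (e : X ≅ X') {i : ℤ} (h : Vanish X i) :
    Vanish X' i := fun Y φ => by
  rw [← cancel_mono ((shiftFunctor (DerivedCategory C) i).map e.inv), zero_comp]
  exact h Y _

theorem shift_comp_d_eq_zero_iff (K : CochainComplex C ℤ) (i p q : ℤ) {Y : C}
    (z : Y ⟶ ((shiftFunctor (CochainComplex C ℤ) i).obj K).X p) :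
    z ≫ ((shiftFunctor (CochainComplex C ℤ) i).obj K).d p q = 0 ↔
      (show Y ⟶ K.X (p + i) from z) ≫ K.d (p + i) (q + i) = 0 := by
  change (show Y ⟶ K.X (p + i) from z) ≫ (i.negOnePow • K.d (p + i) (q + i)) = 0 ↔ _
  rw [Linear.comp_units_smul, smul_eq_zero_iff_eq]

/-- The morphism of complexes attached to a cocycle. -/
noncomputable def cocycleHom (K : CochainComplex C ℤ) (i : ℤ) {Y : C} (z : Y ⟶ K.X i)
    (hz : z ≫ K.d i (i + 1) = 0) :
    (CochainComplex.singleFunctor C 0).obj Y ⟶ (shiftFunctor (CochainComplex C ℤ) i).obj K :=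
  HomologicalComplex.mkHomFromSingle
    (z ≫ (K.XIsoOfEq (show i = 0 + i by omega)).hom) (fun k hk => by
      obtain rfl : 0 + 1 = k := hk
      refine (shift_comp_d_eq_zero_iff K i 0 (0 + 1) _).2 ?_
      change (z ≫ (K.XIsoOfEq (show i = 0 + i by omega)).hom) ≫ K.d (0 + i) (0 + 1 + i) = 0
      rw [Category.assoc]
      rw [HomologicalComplex.XIsoOfEq_hom_comp_d,
        ← HomologicalComplex.d_comp_XIsoOfEq_hom (K := K) (show i + 1 = 0 + 1 + i by omega) i]
      rw [← Category.assoc z, hz, zero_comp])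

theorem cocycleHom_f (K : CochainComplex C ℤ) (i : ℤ) {Y : C} (z : Y ⟶ K.X i)
    (hz : z ≫ K.d i (i + 1) = 0) :
    (cocycleHom K i z hz).f 0 = (HomologicalComplex.singleObjXSelf (ComplexShape.up ℤ) 0 Y).hom ≫
      z ≫ (K.XIsoOfEq (show i = 0 + i by omega)).hom :=
  HomologicalComplex.mkHomFromSingle_f _ _

theorem Q_map_cocycleHom_eq_zero {K : CochainComplex C ℤ} {i : ℤ} (h : Vanish (DerivedCategory.Q.obj K) i)
    {Y : C} (z : Y ⟶ K.X i) (hz : z ≫ K.d i (i + 1) = 0) :
    DerivedCategory.Q.map (cocycleHom K i z hz) = 0 := by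
  have := h Y (((DerivedCategory.singleFunctorIsoCompQ C 0).app Y).hom ≫
    DerivedCategory.Q.map (cocycleHom K i z hz) ≫ ((DerivedCategory.Q.commShiftIso i).app K).hom)
  rw [← cancel_epi ((DerivedCategory.singleFunctorIsoCompQ C 0).app Y).hom,
    ← cancel_mono ((DerivedCategory.Q.commShiftIso i).app K).hom]
  refine (Category.assoc _ _ _).trans (this.trans ?_)
  rw [comp_zero, zero_comp]

theorem exactAt_of_vanish {K : CochainComplex C ℤ} {i : ℤ}
    (h : Vanish (DerivedCategory.Q.obj K) i) : K.ExactAt i := by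
  let g := cocycleHom K i (K.iCycles i) (K.iCycles_d i (i + 1))
  have h0 : HomologicalComplex.homologyMap g 0 = 0 := by
    have := congrArg ((DerivedCategory.homologyFunctor C 0).map)
      (Q_map_cocycleHom_eq_zero h (K.iCycles i) (K.iCycles_d i (i + 1)))
    rw [Functor.map_zero] at this
    refine (cancel_epi ((DerivedCategory.homologyFunctorFactors C 0).hom.app _)).1 ?_
    exact (((DerivedCategory.homologyFunctorFactors C 0).hom.naturality g).symm.trans
      (congrArg (· ≫ _) this)).trans (zero_comp.trans comp_zero.symm)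
  have he : Epi (HomologicalComplex.homologyMap g 0) := by
    rw [HomologicalComplex.epi_homologyMap_iff_up_to_refinements g (-1) 0 1 (by simp) (by simp)]
    intro W y hy
    obtain ⟨y₀, rfl⟩ : ∃ y₀ : W ⟶ K.X (0 + i), y₀ = y := ⟨y, rfl⟩
    have hy₀ : y₀ ≫ K.d (0 + i) (1 + i) = 0 := (shift_comp_d_eq_zero_iff K i 0 1 _).1 hy
    have hy' : (y₀ ≫ (K.XIsoOfEq (show i = 0 + i by omega)).inv) ≫ K.d i (i + 1) = 0 := by
      rw [Category.assoc, HomologicalComplex.XIsoOfEq_inv_comp_d,
        ← HomologicalComplex.d_comp_XIsoOfEq_hom (K := K) (show 1 + i = i + 1 by omega) (0 + i),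
        reassoc_of% hy₀, zero_comp]
    refine ⟨W, 𝟙 W, inferInstance, K.liftCycles _ (i + 1) (by simp) hy' ≫
      (HomologicalComplex.singleObjXSelf (ComplexShape.up ℤ) 0 (K.cycles i)).inv, ?_, 0, ?_⟩
    · erw [HomologicalComplex.single_obj_d]
      exact comp_zero
    · erw [Category.id_comp, zero_comp, add_zero, cocycleHom_f]
      change y₀ = (K.liftCycles _ (i + 1) (by simp) hy' ≫
        (HomologicalComplex.singleObjXSelf (ComplexShape.up ℤ) 0 (K.cycles i)).inv) ≫
          (HomologicalComplex.singleObjXSelf (ComplexShape.up ℤ) 0 (K.cycles i)).hom ≫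
            K.iCycles i ≫ (K.XIsoOfEq (show i = 0 + i by omega)).hom
      rw [Category.assoc, Iso.inv_hom_id_assoc, ← Category.assoc, K.liftCycles_i, Category.assoc,
        Iso.inv_hom_id, Category.comp_id]
  have hz : IsZero (((shiftFunctor (CochainComplex C ℤ) i).obj K).homology 0) := by
    rw [IsZero.iff_id_eq_zero, ← cancel_epi (HomologicalComplex.homologyMap g 0), h0]
    simp
  rw [HomologicalComplex.exactAt_iff_isZero_homology]
  exact hz.of_iso (((HomologicalComplex.homologyFunctor C (ComplexShape.up ℤ) 0).shiftIso i 0 i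
    (add_zero i)).app K).symm

theorem exists_lift_of_vanish {I : CochainComplex C ℤ} [I.IsKInjective] {i : ℤ}
    (h : Vanish (DerivedCategory.Q.obj I) i) {Y : C} (z : Y ⟶ I.X i)
    (hz : z ≫ I.d i (i + 1) = 0) (j : ℤ) (hj : j + 1 = i) :
    ∃ w : Y ⟶ I.X j, w ≫ I.d j i = z := by
  let g := cocycleHom I i z hz
  have h0 : (HomotopyCategory.quotient C (ComplexShape.up ℤ)).map g =
      (HomotopyCategory.quotient C (ComplexShape.up ℤ)).map 0 := by
    apply (CochainComplex.IsKInjective.Qh_map_bijective _ _).injective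
    rw [← cancel_mono ((DerivedCategory.quotientCompQhIso C).hom.app _)]
    refine ((DerivedCategory.quotientCompQhIso C).hom.naturality g).trans ?_
    rw [Q_map_cocycleHom_eq_zero h z hz, comp_zero, Functor.map_zero, Functor.map_zero, zero_comp]
  let H := HomotopyCategory.homotopyOfEq _ _ h0
  have hcomm := H.comm 0
  rw [HomologicalComplex.zero_f, add_zero, dNext_eq _ (show (ComplexShape.up ℤ).Rel 0 1 from rfl),
    prevD_eq _ (show (ComplexShape.up ℤ).Rel (-1) 0 from rfl)] at hcomm
  have hsingle : ((CochainComplex.singleFunctor C 0).obj Y).d 0 1 = 0 :=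
    HomologicalComplex.single_obj_d _ _ _ _ _
  rw [hsingle, zero_comp, zero_add] at hcomm
  let h₁ : ((HomologicalComplex.single C (ComplexShape.up ℤ) 0).obj Y).X 0 ⟶ I.X (-1 + i) := H.hom 0 (-1)
  have hcomm' : (HomologicalComplex.singleObjXSelf (ComplexShape.up ℤ) 0 Y).hom ≫
      z ≫ (I.XIsoOfEq (show i = 0 + i by omega)).hom =
        i.negOnePow • (h₁ ≫ I.d (-1 + i) (0 + i)) := by
    rw [← Linear.comp_units_smul]
    exact (cocycleHom_f I i z hz).symm.trans hcomm
  refine ⟨(i.negOnePow : ℤ) • (HomologicalComplex.singleObjXSelf (ComplexShape.up ℤ) 0 Y).inv ≫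
    h₁ ≫ (I.XIsoOfEq (show -1 + i = j by omega)).hom, ?_⟩
  rw [Preadditive.zsmul_comp]
  simp only [Category.assoc, HomologicalComplex.XIsoOfEq_hom_comp_d]
  rw [← Preadditive.comp_zsmul]
  have h3 : I.d (-1 + i) i = I.d (-1 + i) (0 + i) ≫ (I.XIsoOfEq (zero_add i)).hom :=
    (HomologicalComplex.d_comp_XIsoOfEq_hom _ _ _).symm
  rw [h3, ← Category.assoc h₁, ← Preadditive.zsmul_comp,
    ← Units.smul_def, ← hcomm']
  simp

theorem vanish_of_isZero {I : CochainComplex C ℤ} [I.IsKInjective] {i : ℤ} (h : IsZero (I.X i)) :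
    Vanish (DerivedCategory.Q.obj I) i := by
  intro Y φ
  let φ' := ((DerivedCategory.singleFunctorIsoCompQ C 0).app Y).inv ≫ φ ≫
    ((DerivedCategory.Q.commShiftIso i).app I).inv
  obtain ⟨g, hg⟩ := (CochainComplex.IsKInjective.Qh_map_bijective
    ((HomotopyCategory.quotient C (ComplexShape.up ℤ)).obj ((CochainComplex.singleFunctor C 0).obj Y))
    ((shiftFunctor (CochainComplex C ℤ) i).obj I)).surjective
    ((DerivedCategory.quotientCompQhIso C).hom.app _ ≫ φ' ≫
      (DerivedCategory.quotientCompQhIso C).inv.app _)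
  obtain ⟨f, rfl⟩ := (HomotopyCategory.quotient C (ComplexShape.up ℤ)).map_surjective g
  have hf : f = 0 := HomologicalComplex.from_single_hom_ext
    ((h.of_iso (I.XIsoOfEq (zero_add i))).eq_of_tgt _ _)
  rw [hf, Functor.map_zero, Functor.map_zero] at hg
  have hφ' : φ' = 0 :=
    zero_of_comp_mono _ ((cancel_epi ((DerivedCategory.quotientCompQhIso C).hom.app _)).1
      (hg.symm.trans comp_zero.symm))
  rw [← cancel_epi ((DerivedCategory.singleFunctorIsoCompQ C 0).app Y).inv,
    ← cancel_mono ((DerivedCategory.Q.commShiftIso i).app I).inv, Category.assoc]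
  exact hφ'.trans (by rw [comp_zero, zero_comp])

/-- Vanishing above `b` gives a bounded complex of injectives. -/
theorem exists_truncation {I : CochainComplex C ℤ} (a b : ℤ) [I.IsStrictlyGE a]
    (hI : ∀ n, Injective (I.X n)) (hab : a ≤ b)
    (h : ∀ i, b < i → Vanish (DerivedCategory.Q.obj I) i) :
    ∃ (J : CochainComplex C ℤ) (g : I ⟶ J), J.IsStrictlyGE a ∧ J.IsStrictlyLE b ∧
      (∀ n, Injective (J.X n)) ∧ QuasiIso g := by
  have := CochainComplex.isKInjective_of_injective I a
  have hLE : I.IsLE b := (CochainComplex.isLE_iff I b).2 fun i hi => exactAt_of_vanish (h i hi)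
  obtain ⟨w, hw⟩ := exists_lift_of_vanish (h (b + 1) (by omega)) (I.iCycles (b + 1))
    (I.iCycles_d _ _) b rfl
  have hr : (𝟙 (I.X b) - I.toCycles b (b + 1) ≫ w) ≫ I.d b (b + 1) = 0 := by
    rw [Preadditive.sub_comp, Category.assoc, hw, Category.id_comp, HomologicalComplex.toCycles_i,
      sub_self]
  let ρ := I.liftCycles _ (b + 1) (by simp) hr
  have hρ : I.iCycles b ≫ ρ = 𝟙 _ := by
    have hz : I.iCycles b ≫ I.toCycles b (b + 1) = 0 := by
      rw [← cancel_mono (I.iCycles (b + 1)), Category.assoc, HomologicalComplex.toCycles_i,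
        zero_comp, HomologicalComplex.iCycles_d]
    rw [← cancel_mono (I.iCycles b), Category.assoc, HomologicalComplex.liftCycles_i,
      Preadditive.comp_sub, reassoc_of% hz, zero_comp, sub_zero, Category.comp_id, Category.id_comp]
  have hcyc : Injective (I.cycles b) := Retract.injective { i := I.iCycles b, r := ρ, retract := hρ }
  have hJ : ∀ n, Injective ((I.truncLE b).X n) := by
    intro n
    rcases lt_trichotomy n b with hn | rfl | hn
    · exact Injective.of_iso (I.truncLEXIso b n hn).symm (hI n)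
    · exact Injective.of_iso (I.truncLEXIsoCycles n).symm hcyc
    · exact (CochainComplex.isZero_of_isStrictlyLE (I.truncLE b) b n hn).injective
  have hge : (I.truncLE b).IsStrictlyGE a := by
    rw [CochainComplex.isStrictlyGE_iff]
    intro n hn
    exact (I.isZero_of_isStrictlyGE a n hn).of_iso (I.truncLEXIso b n (by omega))
  have := CochainComplex.isKInjective_of_injective (I.truncLE b) a
  obtain ⟨e, he⟩ := (CochainComplex.IsKInjective.quasiIso_iff (I.ιTruncLE b)).1 inferInstance
  exact ⟨I.truncLE b, e.inv, hge, inferInstance, hJ,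
    homotopyEquivalences_le_quasiIso _ _ _ ⟨e.symm, rfl⟩⟩

end Groth.Agent.ExtVan
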